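import Groth.Agent.SibLib.Top

/-!
# Siblings from an isomorphism on the heart and vanishing of negative self-extensions
-/

set_option autoImplicit false
set_option linter.style.haveILetI false

universe w v u v' u'

open CategoryTheory CategoryTheory.Limits CategoryTheory.Pretriangulated
open scoped ZeroObject

namespace Groth.Agent.SibLib

/-- Morphisms between shifted objects vanish when the shifted morphisms do. -/
theorem hom_shift_eq_zero {D : Type u'} [Category.{v'} D] [Preadditive D] [HasShift D ℤ]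
    [∀ n : ℤ, (shiftFunctor D n).Additive] {P Q : D} {m n q : ℤ} (hq : n - m = q)
    (h : ∀ f : P ⟶ Q⟦q⟧, f = 0) (f : P⟦m⟧ ⟶ Q⟦n⟧) : f = 0 := by
  have h' := h ((shiftFunctorCompIsoId D m (-m) (by omega)).inv.app P ≫ f⟦-m⟧' ≫
    (shiftFunctorAdd' D n (-m) q (by omega)).inv.app Q)
  apply (shiftFunctor D (-m)).map_injective
  rw [Functor.map_zero]
  refine (cancel_mono ((shiftFunctorAdd' D n (-m) q (by omega)).inv.app Q)).1 ?_
  refine (cancel_epi ((shiftFunctorCompIsoId D m (-m) (by omega)).inv.app P)).1 ?_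
  rw [h']
  simp

variable {A : Type u} [Category.{v} A] [Abelian A] [HasDerivedCategory.{w} A]
  {D : Type u'} [Category.{v'} D] [Preadditive D] [HasZeroObject D] [HasShift D ℤ]
  [∀ n : ℤ, (shiftFunctor D n).Additive] [Pretriangulated D] [IsTriangulated D]
  {F F' : DerivedCategory.Bounded A ⥤ D} [F.CommShift ℤ] [F.IsTriangulated]
  [F'.CommShift ℤ] [F'.IsTriangulated]
  (e₀ : DEquiv.singleB A ⋙ F ≅ DEquiv.singleB A ⋙ F')
  (hv : ∀ (X Y : A) (q : ℤ), q < 0 →
    ∀ f : F.obj ((DEquiv.singleB A).obj X) ⟶ (shiftFunctor D q).obj (F.obj ((DEquiv.singleB A).obj Y)), f = 0)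

include hv e₀ in
/-- No morphisms to objects of the heart in higher degrees. -/
theorem hom_higher_eq_zero (n : ℕ) : ∀ (a : ℤ) (X : DerivedCategory.Bounded A), W a (a + n) X →
    ∀ (j : ℤ), a + n < j → ∀ (Y : A) (f : F.obj X ⟶ F'.obj ((T A j).obj Y)), f = 0 := by
  have hT : ∀ (i j : ℤ), i < j → ∀ (N Y : A) (f : F.obj ((T A i).obj N) ⟶ F'.obj ((T A j).obj Y)), f = 0 := by
    intro i j hij N Y f
    let eN := (F.commShiftIso (-i)).app ((DEquiv.singleB A).obj N)
    let eY := (eps F F' e₀ j).app Y ≪≫ Iso.refl _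
    let eY' := (F.commShiftIso (-j)).app ((DEquiv.singleB A).obj Y)
    have := hom_shift_eq_zero (show -j - -i = i - j by omega) (hv N Y (i - j) (by omega))
      (eN.inv ≫ f ≫ ((eps F F' e₀ j).inv.app Y) ≫ eY'.hom)
    have h1 : f ≫ ((eps F F' e₀ j).inv.app Y ≫ eY'.hom) = 0 := (cancel_epi eN.inv).1 (this.trans comp_zero.symm)
    haveI hm : Mono eY'.hom := @IsIso.mono_of_iso _ _ _ _ _ (Iso.isIso_hom eY')
    have hcomp : (f ≫ (eps F F' e₀ j).inv.app Y) ≫ eY'.hom = 0 := (Category.assoc _ _ _).trans h1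
    have h2 : f ≫ (eps F F' e₀ j).inv.app Y = 0 := hm.right_cancellation _ _ (hcomp.trans zero_comp.symm)
    exact (cancel_mono ((eps F F' e₀ j).inv.app Y)).1 (h2.trans zero_comp.symm)
  induction n with
  | zero =>
    intro a X hX j hj Y f
    obtain ⟨N, ⟨e⟩⟩ := exists_iso_T (show W a a X by simpa using hX)
    refine (cancel_epi (F.map e.inv)).1 ?_
    rw [comp_zero]
    exact hT a j (by omega) N Y _
  | succ n ih =>
    intro a X hX j hj Y f
    obtain ⟨N, g, Z, h, δ, hd, hZ, -⟩ := exists_top (by omega) hX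
    have hg : F.map g ≫ f = 0 := hT _ j hj N Y _
    obtain ⟨c, rfl⟩ : ∃ c : F.obj Z ⟶ F'.obj ((T A j).obj Y), f = F.map h ≫ c :=
      Triangle.yoneda_exact₂ _ (F.map_distinguished _ hd) f hg
    rw [ih a Z (hZ.mono le_rfl (by omega)) j (by omega) Y c, comp_zero]

include hv in
/-- Compatible isomorphisms, window by window. -/
theorem exists_iso_top (n : ℕ) : ∀ (a : ℤ) (X : DerivedCategory.Bounded A), W a (a + n) X →
    ∃ θ : F.obj X ≅ F'.obj X, ∀ (Y : A) (δ : X ⟶ (T A (a + n)).obj Y),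
      F.map δ ≫ (eps F F' e₀ (a + n)).hom.app Y = θ.hom ≫ F'.map δ := by
  induction n with
  | zero =>
    intro a X hX
    have hX' : W (a + ((0 : ℕ) : ℤ)) (a + ((0 : ℕ) : ℤ)) X := by simpa using hX
    obtain ⟨N, ⟨e⟩⟩ := exists_iso_T hX'
    refine ⟨F.mapIso e ≪≫ (eps F F' e₀ _).app N ≪≫ F'.mapIso e.symm, fun Y δ => ?_⟩
    obtain ⟨q, hq⟩ := (T A (a + ((0 : ℕ) : ℤ))).map_surjective (e.inv ≫ δ)
    have hn : F.map ((T A _).map q) ≫ (eps F F' e₀ (a + ((0 : ℕ) : ℤ))).hom.app Y =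
        (eps F F' e₀ _).hom.app N ≫ F'.map ((T A _).map q) := (eps F F' e₀ _).hom.naturality q
    rw [hq, F.map_comp, F'.map_comp, Category.assoc] at hn
    rw [← cancel_epi (F.map e.inv)]
    refine hn.trans ?_
    simp [← F.map_comp_assoc e.inv e.hom]
  | succ n ih =>
    intro a X hX
    generalize hb : a + ((n + 1 : ℕ) : ℤ) = b at hX ⊢
    obtain ⟨N, g, Z, h, δ, hd, hZ, -⟩ := exists_top (by omega) hX
    have hn : a + (n : ℤ) + 1 = b := by omega
    have hZ' : W a (a + n) Z := hZ.mono le_rfl (by omega)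
    obtain ⟨θZ, hθZ⟩ := ih a Z hZ'
    have hδ : δ = (δ ≫ (succIso hn N).hom) ≫ (succIso hn N).inv := by simp
    have hsq : (F.map δ ≫ (F.commShiftIso (1 : ℤ)).hom.app _) ≫ ((eps F F' e₀ b).hom.app N)⟦(1 : ℤ)⟧' =
        θZ.hom ≫ (F'.map δ ≫ (F'.commShiftIso (1 : ℤ)).hom.app _) := by
      have h1 := hθZ N (δ ≫ (succIso hn N).hom)
      have h2 := eps_shift F F' e₀ hn N
      conv_lhs => rw [hδ]
      conv_rhs => rw [hδ]
      rw [Functor.map_comp F (δ ≫ _), Functor.map_comp F' (δ ≫ _)]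
      simp only [Category.assoc]
      rw [h2, reassoc_of% h1]
    obtain ⟨φ, hφ₁, hφ₂⟩ : ∃ φ : F.obj X ⟶ F'.obj X, F.map g ≫ φ = (eps F F' e₀ b).hom.app N ≫ F'.map g ∧
        F.map h ≫ θZ.hom = φ ≫ F'.map h := complete_distinguished_triangle_morphism₂ _ _ (F.map_distinguished _ hd)
      (F'.map_distinguished _ hd) ((eps F F' e₀ b).hom.app N) θZ.hom hsq
    haveI : IsIso φ := isIso₂_of_isIso₁₃
      (Triangle.homMk (F.mapTriangle.obj (Triangle.mk g h δ)) (F'.mapTriangle.obj (Triangle.mk g h δ))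
        ((eps F F' e₀ b).hom.app N) φ θZ.hom hφ₁ hφ₂ hsq)
      (F.map_distinguished _ hd) (F'.map_distinguished _ hd)
      (inferInstanceAs (IsIso ((eps F F' e₀ b).hom.app N))) (inferInstanceAs (IsIso θZ.hom))
    refine ⟨asIso φ, fun Y δ' => ?_⟩
    obtain ⟨q, hq⟩ := (T A b).map_surjective (g ≫ δ')
    have hnat : F.map ((T A b).map q) ≫ (eps F F' e₀ b).hom.app Y =
        (eps F F' e₀ b).hom.app N ≫ F'.map ((T A b).map q) := (eps F F' e₀ b).hom.naturality q
    rw [hq, F.map_comp, F'.map_comp, Category.assoc] at hnat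
    have hinj : ∀ d₁ d₂ : F.obj X ⟶ F'.obj ((T A b).obj Y), F.map g ≫ d₁ = F.map g ≫ d₂ → d₁ = d₂ := by
      intro d₁ d₂ h0
      rw [← sub_eq_zero, ← Preadditive.comp_sub] at h0
      obtain ⟨c, hc⟩ : ∃ c : F.obj Z ⟶ F'.obj ((T A b).obj Y), d₁ - d₂ = F.map h ≫ c :=
        Triangle.yoneda_exact₂ _ (F.map_distinguished _ hd) _ h0
      rw [hom_higher_eq_zero e₀ hv n a Z hZ' b (by omega) Y c, comp_zero, sub_eq_zero] at hc
      exact hc
    refine hinj _ _ ?_
    rw [asIso_hom]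
    exact hnat.trans (((reassoc_of% hφ₁) (F'.map δ')).symm)

include hv e₀ in
theorem nonempty_obj_iso (K : DerivedCategory.Bounded A) : Nonempty (F.obj K ≅ F'.obj K) := by
  obtain ⟨a, b, hab, hK⟩ := exists_W K
  obtain ⟨n, rfl⟩ : ∃ n : ℕ, b = a + n := ⟨(b - a).toNat, by omega⟩
  exact ⟨(exists_iso_top e₀ hv n a K hK).choose⟩

end Groth.Agent.SibLib
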