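import Groth.Agent.SibLib.Top

/-!
# A sibling of a fully faithful functor is fully faithful
-/

set_option autoImplicit false
set_option linter.style.haveILetI false
set_option linter.unusedSectionVars false

universe w v u v' u'

open CategoryTheory CategoryTheory.Limits CategoryTheory.Pretriangulated
open scoped ZeroObject

namespace Groth.Agent.SibLib

section Bij

variable {C : Type u} [Category.{v} C] [Preadditive C] [HasZeroObject C] [HasShift C ℤ]
  [∀ n : ℤ, (shiftFunctor C n).Additive] [Pretriangulated C]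
  {D : Type u'} [Category.{v'} D] [Preadditive D] [HasZeroObject D] [HasShift D ℤ]
  [∀ n : ℤ, (shiftFunctor D n).Additive] [Pretriangulated D]
  (G : C ⥤ D) [G.CommShift ℤ] [G.IsTriangulated]

/-- The functor is bijective on these morphisms. -/
def Bij (X Y : C) : Prop := Function.Bijective (fun f : X ⟶ Y => G.map f)

variable {G}

theorem Bij.iso_left {X X' Y : C} (h : Bij G X Y) (e : X' ≅ X) : Bij G X' Y := by
  refine ⟨fun f g hfg => ?_, fun f => ?_⟩
  · have := @h.1 (e.inv ≫ f) (e.inv ≫ g) (by simpa using congrArg (G.map e.inv ≫ ·) hfg)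
    exact (cancel_epi e.inv).1 this
  · obtain ⟨g, hg⟩ := h.2 (G.map e.inv ≫ f)
    exact ⟨e.hom ≫ g, by simp only at hg ⊢; rw [G.map_comp, hg, ← G.map_comp_assoc, e.hom_inv_id, G.map_id, Category.id_comp]⟩

theorem Bij.iso_right {X Y Y' : C} (h : Bij G X Y) (e : Y' ≅ Y) : Bij G X Y' := by
  refine ⟨fun f g hfg => ?_, fun f => ?_⟩
  · have := @h.1 (f ≫ e.hom) (g ≫ e.hom) (by simpa using congrArg (· ≫ G.map e.hom) hfg)
    exact (cancel_mono e.hom).1 this
  · obtain ⟨g, hg⟩ := h.2 (f ≫ G.map e.hom)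
    exact ⟨g ≫ e.inv, by simp only at hg ⊢; rw [G.map_comp, hg, Category.assoc, ← G.map_comp, e.hom_inv_id, G.map_id, Category.comp_id]⟩

theorem Bij.eq_zero {X Y : C} (h : Bij G X Y) (f : X ⟶ Y) (hf : G.map f = 0) : f = 0 :=
  h.1 (by simpa using hf)

theorem bij_triangle_right {T : Triangle C} (hT : T ∈ distTriang _) {X : C} (h₁ : Bij G X T.obj₁)
    (h₃ : Bij G X T.obj₃) (h₃' : Bij G X (T.obj₃⟦(-1 : ℤ)⟧)) (h₁' : Bij G X (T.obj₁⟦(1 : ℤ)⟧)) :
    Bij G X T.obj₂ := by
  have hT' := G.map_distinguished _ hT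
  let β : T.obj₃⟦(-1 : ℤ)⟧ ⟶ T.obj₁ := T.invRotate.mor₁
  have hβ : β ≫ T.mor₁ = 0 := comp_distTriang_mor_zero₁₂ _ (inv_rot_of_distTriang _ hT)
  refine ⟨fun f g hfg => sub_eq_zero.1 ?_, fun f => ?_⟩
  · have hd : G.map (f - g) = 0 := by rw [G.map_sub, sub_eq_zero]; exact hfg
    revert hd
    generalize f - g = d
    intro hd
    obtain ⟨a, rfl⟩ : ∃ a : X ⟶ T.obj₁, d = a ≫ T.mor₁ :=
      Triangle.coyoneda_exact₂ _ hT d (h₃.eq_zero _ (by rw [G.map_comp, hd, zero_comp]))
    have ha : G.map a ≫ (G.mapTriangle.obj T).mor₁ = 0 := by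
      show G.map a ≫ G.map T.mor₁ = 0
      rw [← G.map_comp, hd]
    obtain ⟨w, hw⟩ : ∃ w : G.obj X ⟶ G.obj (T.obj₃⟦(-1 : ℤ)⟧), G.map a = w ≫ G.map β :=
      Triangle.coyoneda_exact₂ _ (G.map_distinguished _ (inv_rot_of_distTriang _ hT)) (G.map a) ha
    obtain ⟨w', hw'⟩ := h₃'.2 w
    have : a = w' ≫ β := h₁.1 (by simp only; rw [G.map_comp, hw]; simp only at hw'; rw [hw'])
    rw [this, Category.assoc, hβ]
    exact comp_zero
  · obtain ⟨k, hk⟩ := h₃.2 (f ≫ G.map T.mor₂)
    simp only at hk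
    have hk0 : k ≫ T.mor₃ = 0 := by
      refine h₁'.eq_zero _ ?_
      have h0 : G.map T.mor₂ ≫ G.map T.mor₃ = 0 := by
        rw [← G.map_comp, comp_distTriang_mor_zero₂₃ _ hT, G.map_zero]
      rw [G.map_comp, hk, Category.assoc, h0, comp_zero]
    obtain ⟨l, rfl⟩ : ∃ l : X ⟶ T.obj₂, k = l ≫ T.mor₂ := Triangle.coyoneda_exact₃ _ hT k hk0
    obtain ⟨m, hm⟩ : ∃ m : G.obj X ⟶ G.obj T.obj₁, f - G.map l = m ≫ G.map T.mor₁ :=
      Triangle.coyoneda_exact₂ _ hT' (f - G.map l) (by
        show (f - G.map l) ≫ G.map T.mor₂ = 0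
        rw [Preadditive.sub_comp, ← G.map_comp, hk, sub_self])
    obtain ⟨m', hm'⟩ := h₁.2 m
    simp only at hm'
    exact ⟨l + m' ≫ T.mor₁, by simp only; rw [G.map_add, G.map_comp, hm', ← hm, add_sub_cancel]⟩

theorem bij_triangle_left {T : Triangle C} (hT : T ∈ distTriang _) {Y : C} (h₁ : Bij G T.obj₁ Y)
    (h₃ : Bij G T.obj₃ Y) (h₃' : Bij G (T.obj₃⟦(-1 : ℤ)⟧) Y) (h₁' : Bij G (T.obj₁⟦(1 : ℤ)⟧) Y) :
    Bij G T.obj₂ Y := by
  have hT' := G.map_distinguished _ hT
  let β : T.obj₃⟦(-1 : ℤ)⟧ ⟶ T.obj₁ := T.invRotate.mor₁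
  have hβ : β ≫ T.mor₁ = 0 := comp_distTriang_mor_zero₁₂ _ (inv_rot_of_distTriang _ hT)
  refine ⟨fun f g hfg => sub_eq_zero.1 ?_, fun f => ?_⟩
  · have hd : G.map (f - g) = 0 := by rw [G.map_sub, sub_eq_zero]; exact hfg
    revert hd
    generalize f - g = d
    intro hd
    obtain ⟨a, rfl⟩ : ∃ a : T.obj₃ ⟶ Y, d = T.mor₂ ≫ a :=
      Triangle.yoneda_exact₂ _ hT d (h₁.eq_zero _ (by rw [G.map_comp, hd, comp_zero]))
    have ha : G.map T.mor₂ ≫ G.map a = 0 := by rw [← G.map_comp, hd]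
    obtain ⟨w, hw⟩ : ∃ w : (G.obj T.obj₁)⟦(1 : ℤ)⟧ ⟶ G.obj Y,
        G.map a = (G.map T.mor₃ ≫ (G.commShiftIso (1 : ℤ)).hom.app T.obj₁) ≫ w :=
      Triangle.yoneda_exact₃ _ hT' (G.map a) ha
    obtain ⟨w', hw'⟩ := h₁'.2 ((G.commShiftIso (1 : ℤ)).hom.app T.obj₁ ≫ w)
    simp only at hw'
    have : a = T.mor₃ ≫ w' := h₃.1 (by simp only; rw [G.map_comp, hw, hw', Category.assoc])
    rw [this, ← Category.assoc, comp_distTriang_mor_zero₂₃ _ hT, zero_comp]
  · obtain ⟨k, hk⟩ := h₁.2 (G.map T.mor₁ ≫ f)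
    simp only at hk
    have hk0 : β ≫ k = 0 := by
      refine h₃'.eq_zero _ ?_
      have h0 : G.map β ≫ G.map T.mor₁ = 0 := by
        rw [← G.map_comp, hβ, G.map_zero]
      rw [G.map_comp, hk, ← Category.assoc, h0, zero_comp]
    obtain ⟨l, rfl⟩ : ∃ l : T.obj₂ ⟶ Y, k = T.mor₁ ≫ l :=
      Triangle.yoneda_exact₂ _ (inv_rot_of_distTriang _ hT) k hk0
    obtain ⟨m, hm⟩ : ∃ m : G.obj T.obj₃ ⟶ G.obj Y, f - G.map l = G.map T.mor₂ ≫ m :=
      Triangle.yoneda_exact₂ _ hT' (f - G.map l) (by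
        show G.map T.mor₁ ≫ (f - G.map l) = 0
        rw [Preadditive.comp_sub, ← G.map_comp, hk, sub_self])
    obtain ⟨m', hm'⟩ := h₃.2 m
    simp only at hm'
    exact ⟨l + T.mor₂ ≫ m', by simp only; rw [G.map_add, G.map_comp, hm', ← hm, add_sub_cancel]⟩

end Bij

variable {A : Type u} [Category.{v} A] [Abelian A] [HasDerivedCategory.{w} A]
  {D : Type u'} [Category.{v'} D] [Preadditive D] [HasZeroObject D] [HasShift D ℤ]
  [∀ n : ℤ, (shiftFunctor D n).Additive] [Pretriangulated D] [IsTriangulated D]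
  {F F' : DerivedCategory.Bounded A ⥤ D} [F.CommShift ℤ] [F.IsTriangulated]
  [F'.CommShift ℤ] [F'.IsTriangulated] [F.Full] [F.Faithful]

/-- Shifting up one degree. -/
noncomputable def predIso {n m : ℤ} (h : n + 1 = m) (X : A) : ((T A n).obj X)⟦(-1 : ℤ)⟧ ≅ (T A m).obj X :=
  ((shiftFunctorAdd' (DerivedCategory.Bounded A) (-n) (-1) (-m) (by omega)).app ((DEquiv.singleB A).obj X)).symm

/-- An epimorphism killing a class of positive degree. -/
theorem exists_effacement {i j : ℤ} (hij : j < i) {M N : A} (ξ : (T A i).obj M ⟶ (T A j).obj N) :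
    ∃ (E : A) (p : E ⟶ M), Epi p ∧ (T A i).map p ≫ ξ = 0 := by
  obtain ⟨V, f, h, hd⟩ := distinguished_cocone_triangle₁ ξ
  have hd' := inv_rot_of_distTriang _ hd
  have hV : W j i V := W.of_triangle hd'
    (((W_T (j + 1) N).mono (by omega) (by omega)).of_iso (predIso (rfl : j + 1 = j + 1) N).symm)
    ((W_T i M).mono (by omega) le_rfl)
  obtain ⟨E, g, -, -, -, -, -, hg⟩ := exists_top hij hV
  obtain ⟨p, hp⟩ := (T A i).map_surjective (g ≫ f)
  refine ⟨E, p, ?_, ?_⟩
  · have hfe : Epi ((DerivedCategory.homologyFunctor A i).map f.hom) :=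
      (DerivedCategory.HomologySequence.exact₂ _ ((DerivedCategory.Bounded.ι (C := A)).map_distinguished _ hd) i).epi_f
        ((((T A j).obj N).obj.isZero_of_isLE j i hij).eq_of_tgt _ _)
    refine Preadditive.epi_of_cancel_zero _ (fun r hr => ?_)
    refine (T A i).map_injective ?_
    rw [Functor.map_zero]
    refine eq_zero_of_homology_T i _ ?_
    have h0 : ((g ≫ f) ≫ (T A i).map r).hom = 0 := by
      rw [← hp, ← Functor.map_comp, hr, Functor.map_zero]; rfl
    have h1 := congrArg (DerivedCategory.homologyFunctor A i).map h0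
    change (DerivedCategory.homologyFunctor A i).map ((g.hom ≫ f.hom) ≫ ((T A i).map r).hom) = _ at h1
    rw [Functor.map_comp, Functor.map_comp, Functor.map_zero, Category.assoc] at h1
    exact hfe.left_cancellation _ _ ((hg.left_cancellation _ _ (h1.trans comp_zero.symm)).trans comp_zero.symm)
  · rw [hp, Category.assoc, show f ≫ ξ = 0 from comp_distTriang_mor_zero₁₂ _ hd]
    exact comp_zero

/-- The cone of an epimorphism of the heart lives one degree lower. -/
theorem exists_cone {i : ℤ} {E M : A} (p : E ⟶ M) (hp : Epi p) :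
    ∃ (Q : DerivedCategory.Bounded A) (δ : (T A i).obj M ⟶ Q) (δ' : Q ⟶ ((T A i).obj E)⟦(1 : ℤ)⟧) (K : A),
      Triangle.mk ((T A i).map p) δ δ' ∈ distTriang _ ∧ Nonempty (Q ≅ (T A (i - 1)).obj K) := by
  obtain ⟨Q, δ, δ', hd⟩ := distinguished_cocone_triangle ((T A i).map p)
  have hQ : W (i - 1) i Q := W.of_triangle (rot_of_distTriang _ hd) ((W_T i M).mono (by omega) le_rfl)
    (((W_T (i - 1) E).mono le_rfl (by omega)).of_iso (succIso (show i - 1 + 1 = i by omega) E).symm)
  have hQ' : Q.obj.IsLE (i - 1) := by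
    rw [DerivedCategory.isLE_iff]
    intro k hk
    haveI := hQ.2
    rcases eq_or_lt_of_le (show i ≤ k by omega) with rfl | hk'
    · have hd' := (DerivedCategory.Bounded.ι (C := A)).map_distinguished _ hd
      refine (DerivedCategory.HomologySequence.exact₃ _ hd' i (i + 1) rfl).isZero_of_both_zeros ?_ ?_
      · have hpe : Epi ((DerivedCategory.homologyFunctor A i).map ((T A i).map p).hom) := by
          refine Preadditive.epi_of_cancel_zero _ (fun r hr => ?_)
          haveI := hp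
          have e1 := ((MorphismProperty.epimorphisms A).arrow_mk_iso_iff
            (((Functor.mapArrowFunctor _ _).mapIso
              (DerivedCategory.singleFunctorCompHomologyFunctorIso A i)).app (Arrow.mk p))).2 hp
          haveI : Epi ((DerivedCategory.homologyFunctor A i).map ((DerivedCategory.singleFunctor A i).map p)) := e1
          have hnat : ((T A i).map p).hom ≫ (TIso i M).hom =
              (TIso i E).hom ≫ (DerivedCategory.singleFunctor A i).map p := TIso_naturality i p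
          have h1 := congrArg (DerivedCategory.homologyFunctor A i).map hnat
          rw [Functor.map_comp, Functor.map_comp] at h1
          haveI : Epi ((DerivedCategory.homologyFunctor A i).map ((T A i).map p).hom ≫
              (DerivedCategory.homologyFunctor A i).map (TIso i M).hom) := h1 ▸ epi_comp _ _
          rw [← Iso.map_hom_inv_id_assoc (TIso i M) (DerivedCategory.homologyFunctor A i) r] at hr
          have := zero_of_epi_comp _ ((Category.assoc _ _ _).trans hr)
          simpa using congrArg ((DerivedCategory.homologyFunctor A i).map (TIso i M).hom ≫ ·) this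
        have hc : (DerivedCategory.homologyFunctor A i).map ((T A i).map p).hom ≫
            (DerivedCategory.homologyFunctor A i).map δ.hom = 0 := by
          rw [← Functor.map_comp, show ((T A i).map p).hom ≫ δ.hom = 0 from comp_distTriang_mor_zero₁₂ _ hd',
            Functor.map_zero]
        exact hpe.left_cancellation _ _ (hc.trans comp_zero.symm)
      · exact (((T A i).obj E).obj.isZero_of_isLE i (i + 1) (by omega)).eq_of_tgt _ _
    · exact Q.obj.isZero_of_isLE i k hk'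
  obtain ⟨K, hK⟩ := exists_iso_T (show W (i - 1) (i - 1) Q from ⟨hQ.1, hQ'⟩)
  exact ⟨Q, δ, δ', K, hd, hK⟩

variable (e₀ : DEquiv.singleB A ⋙ F ≅ DEquiv.singleB A ⋙ F')

include e₀ in
/-- Bijectivity on shifted objects of the heart. -/
theorem bij_T (n : ℕ) : ∀ i j : ℤ, i ≤ j + n → ∀ M N : A, Bij F' ((T A i).obj M) ((T A j).obj N) := by
  induction n with
  | zero =>
    intro i j hij M N
    rcases eq_or_lt_of_le (show i ≤ j by simpa using hij) with rfl | hlt
    · refine ⟨fun f g hfg => ?_, fun f => ?_⟩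
      · obtain ⟨f, rfl⟩ := (T A i).map_surjective f
        obtain ⟨g, rfl⟩ := (T A i).map_surjective g
        refine F.map_injective ?_
        have hf : F.map ((T A i).map f) ≫ (eps F F' e₀ i).hom.app N =
            (eps F F' e₀ i).hom.app M ≫ F'.map ((T A i).map f) := (eps F F' e₀ i).hom.naturality f
        have hg : F.map ((T A i).map g) ≫ (eps F F' e₀ i).hom.app N =
            (eps F F' e₀ i).hom.app M ≫ F'.map ((T A i).map g) := (eps F F' e₀ i).hom.naturality g
        simp only at hfg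
        rw [hfg] at hf
        exact (cancel_mono ((eps F F' e₀ i).hom.app N)).1 (hf.trans hg.symm)
      · obtain ⟨ξ, hξ⟩ := F.map_surjective ((eps F F' e₀ i).hom.app M ≫ f ≫ (eps F F' e₀ i).inv.app N)
        obtain ⟨q, rfl⟩ := (T A i).map_surjective ξ
        refine ⟨(T A i).map q, (cancel_epi ((eps F F' e₀ i).hom.app M)).1 ?_⟩
        have hq : F.map ((T A i).map q) ≫ (eps F F' e₀ i).hom.app N =
            (eps F F' e₀ i).hom.app M ≫ F'.map ((T A i).map q) := (eps F F' e₀ i).hom.naturality q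
        refine hq.symm.trans ?_
        rw [hξ]
        simp
    · have hz : ∀ f : (T A i).obj M ⟶ (T A j).obj N, f = 0 := fun f =>
        ObjectProperty.hom_ext _ (DerivedCategory.TStructure.t.zero f.hom i j hlt)
      refine ⟨fun f g _ => (hz f).trans (hz g).symm, fun f => ⟨0, ?_⟩⟩
      obtain ⟨ξ, hξ⟩ := F.map_surjective ((eps F F' e₀ i).hom.app M ≫ f ≫ (eps F F' e₀ j).inv.app N)
      rw [hz ξ, F.map_zero] at hξ
      simp only [Functor.map_zero]
      refine (cancel_epi ((eps F F' e₀ i).hom.app M)).1 ((cancel_mono ((eps F F' e₀ j).inv.app N)).1 ?_)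
      rw [comp_zero, zero_comp, Category.assoc]
      exact hξ
  | succ n ih =>
    intro i j hij M N
    by_cases hn : i ≤ j + n
    · exact ih i j hn M N
    have hji : j < i := by omega
    have hC : ∀ (X : DerivedCategory.Bounded A) (K : A), Nonempty (X ≅ (T A (i - 1)).obj K) →
        Bij F' X ((T A j).obj N) := fun X K ⟨e⟩ => (ih (i - 1) j (by omega) K N).iso_left e
    have hE : ∀ E : A, Bij F' (((T A i).obj E)⟦(1 : ℤ)⟧) ((T A j).obj N) := fun E =>
      hC _ E ⟨succIso (by omega) E⟩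
    refine ⟨fun f g hfg => sub_eq_zero.1 ?_, fun f => ?_⟩
    · have hd : F'.map (f - g) = 0 := by rw [F'.map_sub, sub_eq_zero]; exact hfg
      revert hd
      generalize f - g = ξ
      intro hξ
      obtain ⟨E, p, hp, hpξ⟩ := exists_effacement hji ξ
      obtain ⟨Q, δ, δ', K, hdist, hK⟩ := exists_cone (i := i) p hp
      obtain ⟨η, rfl⟩ : ∃ η : Q ⟶ (T A j).obj N, ξ = δ ≫ η := Triangle.yoneda_exact₂ _ hdist ξ hpξ
      obtain ⟨w, hw⟩ : ∃ w : (F'.obj ((T A i).obj E))⟦(1 : ℤ)⟧ ⟶ F'.obj ((T A j).obj N),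
          F'.map η = (F'.map δ' ≫ (F'.commShiftIso (1 : ℤ)).hom.app _) ≫ w :=
        Triangle.yoneda_exact₃ _ (F'.map_distinguished _ hdist) (F'.map η)
          (by show F'.map δ ≫ F'.map η = 0; rw [← F'.map_comp, hξ])
      obtain ⟨w', hw'⟩ := (hE E).2 ((F'.commShiftIso (1 : ℤ)).hom.app _ ≫ w)
      simp only at hw'
      have : η = δ' ≫ w' := (hC Q K hK).1 (by simp only; rw [F'.map_comp, hw, hw', Category.assoc])
      rw [this, ← Category.assoc, show δ ≫ δ' = 0 from comp_distTriang_mor_zero₂₃ _ hdist, zero_comp]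
    · obtain ⟨ξ, hξ⟩ := F.map_surjective ((eps F F' e₀ i).hom.app M ≫ f ≫ (eps F F' e₀ j).inv.app N)
      obtain ⟨E, p, hp, hpξ⟩ := exists_effacement hji ξ
      obtain ⟨Q, δ, δ', K, hdist, hK⟩ := exists_cone (i := i) p hp
      obtain ⟨η, rfl⟩ : ∃ η : Q ⟶ (T A j).obj N, ξ = δ ≫ η := Triangle.yoneda_exact₂ _ hdist ξ hpξ
      have hsq : F.map ((T A i).map p) ≫ (eps F F' e₀ i).hom.app M =
          (eps F F' e₀ i).hom.app E ≫ F'.map ((T A i).map p) := (eps F F' e₀ i).hom.naturality p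
      obtain ⟨φ, hφ, hφ'⟩ : ∃ φ : F.obj Q ⟶ F'.obj Q, F.map δ ≫ φ = (eps F F' e₀ i).hom.app M ≫ F'.map δ ∧
          (F.map δ' ≫ (F.commShiftIso (1 : ℤ)).hom.app _) ≫ ((eps F F' e₀ i).hom.app E)⟦(1 : ℤ)⟧' =
            φ ≫ (F'.map δ' ≫ (F'.commShiftIso (1 : ℤ)).hom.app _) :=
        complete_distinguished_triangle_morphism _ _ (F.map_distinguished _ hdist)
          (F'.map_distinguished _ hdist) _ _ hsq
      haveI : IsIso φ := isIso₃_of_isIso₁₂
        (Triangle.homMk (F.mapTriangle.obj (Triangle.mk ((T A i).map p) δ δ'))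
          (F'.mapTriangle.obj (Triangle.mk ((T A i).map p) δ δ'))
          ((eps F F' e₀ i).hom.app E) ((eps F F' e₀ i).hom.app M) φ hsq hφ hφ')
        (F.map_distinguished _ hdist) (F'.map_distinguished _ hdist)
        (inferInstanceAs (IsIso ((eps F F' e₀ i).hom.app E))) (inferInstanceAs (IsIso ((eps F F' e₀ i).hom.app M)))
      obtain ⟨η', hη'⟩ := (hC Q K hK).2 (inv φ ≫ F.map η ≫ (eps F F' e₀ j).hom.app N)
      simp only at hη'
      refine ⟨δ ≫ η', (cancel_epi ((eps F F' e₀ i).hom.app M)).1 ?_⟩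
      simp only
      rw [F'.map_comp, hη', ← reassoc_of% hφ, IsIso.hom_inv_id_assoc, ← Category.assoc, ← F.map_comp, hξ]
      simp

include e₀ in
theorem bij_window_right (n : ℕ) : ∀ (a : ℤ) (Y : DerivedCategory.Bounded A), W a (a + n) Y →
    ∀ (i : ℤ) (M : A), Bij F' ((T A i).obj M) Y := by
  have hT : ∀ i j M N, Bij F' ((T A i).obj M) ((T A j).obj N) := fun i j M N =>
    bij_T e₀ (i - j).toNat i j (by omega) M N
  induction n with
  | zero =>
    intro a Y hY i M
    obtain ⟨N, ⟨e⟩⟩ := exists_iso_T (show W a a Y by simpa using hY)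
    exact (hT i a M N).iso_right e
  | succ n ih =>
    intro a Y hY i M
    obtain ⟨N, g, Z, h, δ, hd, hZ, -⟩ := exists_top (by omega) hY
    have hZ' : W a (a + n) Z := hZ.mono le_rfl (by omega)
    exact bij_triangle_right hd (hT i _ M N) (ih a Z hZ' i M)
      (ih (a + 1) _ (W_shift hZ' (-1) (by omega) (by omega)) i M)
      ((hT i _ M N).iso_right (succIso (sub_add_cancel _ 1) N))

include e₀ in
theorem bij_window_left (n : ℕ) : ∀ (a : ℤ) (X : DerivedCategory.Bounded A), W a (a + n) X →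
    ∀ Y : DerivedCategory.Bounded A, Bij F' X Y := by
  have hT : ∀ i M Y, Bij F' ((T A i).obj M) Y := fun i M Y => by
    obtain ⟨a, b, hab, hY⟩ := exists_W Y
    exact bij_window_right e₀ (b - a).toNat a Y (hY.mono le_rfl (by omega)) i M
  induction n with
  | zero =>
    intro a X hX Y
    obtain ⟨N, ⟨e⟩⟩ := exists_iso_T (show W a a X by simpa using hX)
    exact (hT a N Y).iso_left e
  | succ n ih =>
    intro a X hX Y
    obtain ⟨N, g, Z, h, δ, hd, hZ, -⟩ := exists_top (by omega) hX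
    have hZ' : W a (a + n) Z := hZ.mono le_rfl (by omega)
    exact bij_triangle_left hd (hT _ N Y) (ih a Z hZ' Y)
      (ih (a + 1) _ (W_shift hZ' (-1) (by omega) (by omega)) Y)
      ((hT _ N Y).iso_left (succIso (sub_add_cancel _ 1) N))

include e₀ in
theorem full_faithful : F'.Full ∧ F'.Faithful := by
  have hB : ∀ X Y, Bij F' X Y := fun X Y => by
    obtain ⟨a, b, hab, hX⟩ := exists_W X
    exact bij_window_left e₀ (b - a).toNat a X (hX.mono le_rfl (by omega)) Y
  exact ⟨⟨fun f => (hB _ _).2 f⟩, ⟨fun h => (hB _ _).1 h⟩⟩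

end Groth.Agent.SibLib
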