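import Groth.Agent.SibLib.Neg

/-!
# The isomorphism between siblings, built window by window
-/

set_option autoImplicit false
set_option linter.style.haveILetI false

universe w v u v' u'

open CategoryTheory CategoryTheory.Limits CategoryTheory.Pretriangulated
open scoped ZeroObject

namespace Groth.Agent.SibLib

variable {A : Type u} [Category.{v} A] [Abelian A] [HasDerivedCategory.{w} A]
  {D : Type u'} [Category.{v'} D] [Preadditive D] [HasZeroObject D] [HasShift D ℤ]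
  [∀ n : ℤ, (shiftFunctor D n).Additive] [Pretriangulated D] [IsTriangulated D]
  (F F' : DerivedCategory.Bounded A ⥤ D) [F.CommShift ℤ] [F.IsTriangulated]
  [F'.CommShift ℤ] [F'.IsTriangulated]
  (e₀ : DEquiv.singleB A ⋙ F ≅ DEquiv.singleB A ⋙ F')

/-- A natural isomorphism on the objects with cohomology in `[a, b]`, extending the given one. -/
structure Fam (a b : ℤ) where
  θ : ∀ K, W a b K → (F.obj K ≅ F'.obj K)
  nat : ∀ {K L : DerivedCategory.Bounded A} (hK : W a b K) (hL : W a b L) (f : K ⟶ L),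
    F.map f ≫ (θ L hL).hom = (θ K hK).hom ≫ F'.map f
  spec : ∀ m, a ≤ m → m ≤ b → ∀ (X : A) (h : W a b ((T A m).obj X)),
    (θ ((T A m).obj X) h).hom = (eps F F' e₀ m).hom.app X

variable {F F' e₀}

/-- Restriction to a smaller window. -/
def Fam.restrict {a b a' b' : ℤ} (P : Fam F F' e₀ a b) (ha : a ≤ a') (hb : b' ≤ b) : Fam F F' e₀ a' b' where
  θ K hK := P.θ K (hK.mono ha hb)
  nat _ _ f := P.nat _ _ f
  spec m h1 h2 X _ := P.spec m (ha.trans h1) (h2.trans hb) X _

variable [F.Full]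

omit [F.Full] in
/-- The connecting square. -/
theorem sq_δ {a b : ℤ} (P : Fam F F' e₀ a (b - 1)) (hab : a < b) {Z : DerivedCategory.Bounded A} (hZ : W a (b - 1) Z)
    {N : A} (δ : Z ⟶ ((T A b).obj N)⟦(1 : ℤ)⟧) :
    (F.map δ ≫ (F.commShiftIso (1 : ℤ)).hom.app _) ≫ ((eps F F' e₀ b).hom.app N)⟦(1 : ℤ)⟧' =
      (P.θ Z hZ).hom ≫ (F'.map δ ≫ (F'.commShiftIso (1 : ℤ)).hom.app _) := by
  have hn : b - 1 + 1 = b := by omega
  have hW : W a (b - 1) ((T A (b - 1)).obj N) := (W_T _ N).mono (by omega) le_rfl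
  have hδ : δ = (δ ≫ (succIso hn N).hom) ≫ (succIso hn N).inv := by simp
  have h1 := P.nat hZ hW (δ ≫ (succIso hn N).hom)
  rw [P.spec (b - 1) (by omega) le_rfl N hW] at h1
  have h2 := eps_shift F F' e₀ hn N
  conv_lhs => rw [hδ]
  conv_rhs => rw [hδ]
  rw [Functor.map_comp F (δ ≫ _), Functor.map_comp F' (δ ≫ _)]
  simp only [Category.assoc]
  rw [h2, reassoc_of% h1]

/-- Morphisms to the target are tested after composition with the cone map. -/
theorem eq_zero_test {b : ℤ} {X X' Z : DerivedCategory.Bounded A} {N : A} {g : (T A b).obj N ⟶ X'} {h : X' ⟶ Z}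
    {δ : Z ⟶ ((T A b).obj N)⟦(1 : ℤ)⟧} (hd : Triangle.mk g h δ ∈ distTriang _)
    (e : F.obj ((T A b).obj N) ≅ F'.obj ((T A b).obj N))
    (hX : ∀ w : X ⟶ (T A b).obj N, w = 0) (u : F.obj X ⟶ F'.obj X') (hu : u ≫ F'.map h = 0) : u = 0 := by
  obtain ⟨v, hv⟩ := Triangle.coyoneda_exact₂ _ (F'.map_distinguished _ hd) u hu
  obtain ⟨w, hw⟩ := F.map_surjective (v ≫ e.inv)
  have hv0 : v = 0 := (cancel_mono e.inv).1 (hw.symm.trans (by rw [hX w, F.map_zero]; exact zero_comp.symm))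
  rw [hv, hv0]
  exact zero_comp

/-- Compatibility with all morphisms to shorter objects. -/
def Sq {a b : ℤ} (P : Fam F F' e₀ a (b - 1)) (X : DerivedCategory.Bounded A) (φ : F.obj X ⟶ F'.obj X) : Prop :=
  ∀ (Y : DerivedCategory.Bounded A) (hY : W a (b - 1) Y) (h : X ⟶ Y),
    F.map h ≫ (P.θ Y hY).hom = φ ≫ F'.map h

variable (hneg : ∀ X : A, ∃ (N : A) (p : N ⟶ X), Epi p ∧ ∀ f : X ⟶ N, f = 0)

include hneg in
/-- Two compatible systems agree and are natural. -/
theorem sq_natural {a b : ℤ} (P : Fam F F' e₀ a (b - 1)) (hab : a < b) {X X' : DerivedCategory.Bounded A}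
    (hX : W a b X) (hX' : W a b X') {φ : F.obj X ⟶ F'.obj X} {φ' : F.obj X' ⟶ F'.obj X'}
    (hφ : Sq P X φ) (hφ' : Sq P X' φ') (f : X ⟶ X') : F.map f ≫ φ' = φ ≫ F'.map f := by
  obtain ⟨N, g, Z, h, δ, hd, hZ, -, -, hP, -⟩ := exists_data hneg hab hX'
    (isLE_T (b - 1) (0 : A)) (0 : X' ⟶ (T A (b - 1)).obj (0 : A)) ((DerivedCategory.homologyFunctor A b).obj X.obj)
  haveI := hX.2
  refine sub_eq_zero.1 (eq_zero_test hd ((eps F F' e₀ b).app N) (fun w => ?_) _ ?_)
  · refine eq_zero_of_homology_T b w ?_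
    refine (cancel_mono ((DerivedCategory.homologyFunctor A b).map (TIso b N).hom)).1 ?_
    rw [zero_comp, ← cancel_mono (((DerivedCategory.singleFunctorCompHomologyFunctorIso A b).app N).hom), zero_comp]
    exact hP _
  · rw [Preadditive.sub_comp, Category.assoc, Category.assoc, ← hφ' Z hZ h, ← F'.map_comp, ← hφ Z hZ (f ≫ h),
      F.map_comp, Category.assoc, sub_self]

include hneg in
/-- Existence of the compatible isomorphism. -/
theorem exists_sq {a b : ℤ} (P : Fam F F' e₀ a (b - 1)) (hab : a < b) {X : DerivedCategory.Bounded A}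
    (hX : W a b X) : ∃ φ : F.obj X ≅ F'.obj X, Sq P X φ.hom := by
  obtain ⟨N, g, Z, h, δ, hd, hZ, -, -, -, hN⟩ := exists_data hneg hab hX
    (isLE_T (b - 1) (0 : A)) (0 : X ⟶ (T A (b - 1)).obj (0 : A)) (0 : A)
  obtain ⟨φ, hφ₁, hφ₂⟩ : ∃ φ : F.obj X ⟶ F'.obj X, F.map g ≫ φ = (eps F F' e₀ b).hom.app N ≫ F'.map g ∧
      F.map h ≫ (P.θ Z hZ).hom = φ ≫ F'.map h := complete_distinguished_triangle_morphism₂ _ _ (F.map_distinguished _ hd)
    (F'.map_distinguished _ hd) ((eps F F' e₀ b).hom.app N) (P.θ Z hZ).hom (sq_δ P hab hZ δ)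
  haveI : IsIso φ := isIso₂_of_isIso₁₃
    (Triangle.homMk (F.mapTriangle.obj (Triangle.mk g h δ)) (F'.mapTriangle.obj (Triangle.mk g h δ))
      ((eps F F' e₀ b).hom.app N) φ (P.θ Z hZ).hom hφ₁ hφ₂ (sq_δ P hab hZ δ))
    (F.map_distinguished _ hd) (F'.map_distinguished _ hd)
    (inferInstanceAs (IsIso ((eps F F' e₀ b).hom.app N))) (inferInstanceAs (IsIso (P.θ Z hZ).hom))
  refine ⟨asIso φ, fun Y hY k => ?_⟩
  obtain ⟨N', g', Z', h', δ', hd', hZ', hk, -, -, -⟩ := exists_data hneg hab hX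
    (hZ.biprod hY).2 (biprod.lift h k) (0 : A)
  obtain ⟨ψ, -, hψ₂⟩ : ∃ ψ : F.obj X ⟶ F'.obj X, F.map g' ≫ ψ = (eps F F' e₀ b).hom.app N' ≫ F'.map g' ∧
      F.map h' ≫ (P.θ Z' hZ').hom = ψ ≫ F'.map h' := complete_distinguished_triangle_morphism₂ _ _ (F.map_distinguished _ hd')
    (F'.map_distinguished _ hd') ((eps F F' e₀ b).hom.app N') (P.θ Z' hZ').hom (sq_δ P hab hZ' δ')
  have key : ∀ (Y : DerivedCategory.Bounded A) (hY : W a (b - 1) Y) (q : X ⟶ Y), g' ≫ q = 0 →
      F.map q ≫ (P.θ Y hY).hom = ψ ≫ F'.map q := by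
    intro Y hY q hq
    obtain ⟨c, rfl⟩ : ∃ c : Z' ⟶ Y, q = h' ≫ c := Triangle.yoneda_exact₂ _ hd' q hq
    rw [F.map_comp, F'.map_comp, Category.assoc, P.nat hZ' hY c, ← Category.assoc, ← Category.assoc]
    exact congrArg (· ≫ F'.map c) hψ₂
  have hh : g' ≫ h = 0 := by simpa using congrArg (· ≫ biprod.fst) hk
  have hk' : g' ≫ k = 0 := by simpa using congrArg (· ≫ biprod.snd) hk
  have : φ = ψ := by
    refine sub_eq_zero.1 (eq_zero_test hd ((eps F F' e₀ b).app N) hN _ ?_)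
    rw [Preadditive.sub_comp, ← key Z hZ h hh, sub_eq_zero]
    exact hφ₂.symm
  rw [asIso_hom, this]
  exact key Y hY k hk'

include hneg in
/-- The given isomorphism on the top degree is compatible. -/
theorem sq_eps {a b : ℤ} (P : Fam F F' e₀ a (b - 1)) (hab : a < b) (M : A) :
    Sq P ((T A b).obj M) ((eps F F' e₀ b).hom.app M) := by
  intro Y hY k
  obtain ⟨N, g, Z, h, δ, hd, hZ, hk, -, -, -⟩ := exists_data hneg (show b - 1 < b by omega)
    ((W_T b M).mono (by omega) le_rfl) hY.2 k (0 : A)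
  have hZ' : W a (b - 1) Z := hZ.mono (by omega) le_rfl
  obtain ⟨g₀, rfl⟩ := (T A b).map_surjective g
  have hsq : F.map ((T A b).map g₀) ≫ (eps F F' e₀ b).hom.app M =
      (eps F F' e₀ b).hom.app N ≫ F'.map ((T A b).map g₀) := (eps F F' e₀ b).hom.naturality g₀
  obtain ⟨ψ, hψ₂, hψ₃⟩ : ∃ ψ : F.obj Z ⟶ F'.obj Z, F.map h ≫ ψ = (eps F F' e₀ b).hom.app M ≫ F'.map h ∧
      (F.map δ ≫ (F.commShiftIso (1 : ℤ)).hom.app _) ≫ ((eps F F' e₀ b).hom.app N)⟦(1 : ℤ)⟧' =
        ψ ≫ (F'.map δ ≫ (F'.commShiftIso (1 : ℤ)).hom.app _) := complete_distinguished_triangle_morphism _ _ (F.map_distinguished _ hd)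
    (F'.map_distinguished _ hd) ((eps F F' e₀ b).hom.app N) ((eps F F' e₀ b).hom.app M) hsq
  have hψ : ψ = (P.θ Z hZ').hom := by
    have h0 : (ψ - (P.θ Z hZ').hom) ≫ (F'.map δ ≫ (F'.commShiftIso (1 : ℤ)).hom.app _) = 0 := by
      rw [Preadditive.sub_comp, ← hψ₃, sub_eq_zero]
      exact sq_δ P hab hZ' δ
    obtain ⟨v, hv⟩ := Triangle.coyoneda_exact₃ _ (F'.map_distinguished _ hd) _ h0
    obtain ⟨w, hw⟩ := F.map_surjective (v ≫ (eps F F' e₀ b).inv.app M)
    haveI := hZ.2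
    have hw0 : w = 0 := ObjectProperty.hom_ext _ (DerivedCategory.TStructure.t.zero w.hom (b - 1) b (by omega))
    have hv0 : v = 0 := by
      exact (cancel_mono ((eps F F' e₀ b).inv.app M)).1 (hw.symm.trans (by rw [hw0, F.map_zero]; exact zero_comp.symm))
    rw [hv0, zero_comp] at hv
    exact sub_eq_zero.1 hv
  obtain ⟨c, rfl⟩ : ∃ c : Z ⟶ Y, k = h ≫ c := Triangle.yoneda_exact₂ _ hd k hk
  rw [F.map_comp, F'.map_comp, Category.assoc, P.nat hZ' hY c, ← Category.assoc, ← Category.assoc]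
  rw [hψ] at hψ₂
  exact congrArg (· ≫ F'.map c) hψ₂

include hneg in
/-- The step. -/
theorem exists_fam_step {a b : ℤ} (P : Fam F F' e₀ a (b - 1)) (hab : a < b) : Nonempty (Fam F F' e₀ a b) := by
  choose φ hφ using fun (K : DerivedCategory.Bounded A) (hK : W a b K) => exists_sq hneg P hab hK
  refine ⟨{ θ := φ, nat := fun hK hL f => sq_natural hneg P hab hK hL (hφ _ hK) (hφ _ hL) f, spec := ?_ }⟩
  intro m h1 h2 X h
  rcases eq_or_lt_of_le h2 with rfl | h3
  · simpa using (sq_natural hneg P hab h h (sq_eps hneg P hab X) (hφ _ h) (𝟙 _))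
  · have hs : W a (b - 1) ((T A m).obj X) := (W_T m X).mono h1 (by omega)
    have : F.map (𝟙 _) ≫ (P.θ _ hs).hom = (φ _ h).hom ≫ F'.map (𝟙 _) := hφ _ h _ hs (𝟙 _)
    rw [F.map_id, F'.map_id, Category.id_comp, Category.comp_id] at this
    rw [← this]
    exact P.spec m h1 (by omega) X hs

theorem exists_fam_base (a : ℤ) : Nonempty (Fam F F' e₀ a a) := by
  choose X hX using fun (K : DerivedCategory.Bounded A) (hK : W a a K) => exists_iso_T hK
  refine ⟨{
    θ := fun K hK => F.mapIso (hX K hK).some ≪≫ (eps F F' e₀ a).app (X K hK) ≪≫ F'.mapIso (hX K hK).some.symm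
    nat := ?_
    spec := ?_ }⟩
  · intro K L hK hL f
    obtain ⟨q, hq⟩ := (T A a).map_surjective ((hX K hK).some.inv ≫ f ≫ (hX L hL).some.hom)
    have hn : F.map ((T A a).map q) ≫ (eps F F' e₀ a).hom.app _ = (eps F F' e₀ a).hom.app _ ≫ F'.map ((T A a).map q) :=
      (eps F F' e₀ a).hom.naturality q
    rw [hq] at hn
    simp only [Functor.map_comp, Category.assoc] at hn
    simp only [Iso.trans_hom, Functor.mapIso_hom, Iso.app_hom, Iso.symm_hom, Category.assoc]
    rw [← cancel_mono (F'.map (hX L hL).some.hom), ← cancel_epi (F.map (hX K hK).some.inv)]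
    simp only [Category.assoc, ← F.map_comp_assoc (hX K hK).some.inv (hX K hK).some.hom, Iso.inv_hom_id, F.map_id,
      ← F'.map_comp (hX L hL).some.inv, F'.map_id, Category.id_comp]
    erw [Category.comp_id]
    exact hn
  · intro m h1 h2 M h
    obtain rfl : m = a := le_antisymm h2 h1
    obtain ⟨q, hq⟩ := (T A m).map_surjective (hX _ h).some.hom
    have hn : F.map ((T A m).map q) ≫ (eps F F' e₀ m).hom.app _ = (eps F F' e₀ m).hom.app _ ≫ F'.map ((T A m).map q) :=
      (eps F F' e₀ m).hom.naturality q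
    rw [hq] at hn
    simp only [Iso.trans_hom, Functor.mapIso_hom, Iso.app_hom, Iso.symm_hom]
    rw [reassoc_of% hn]
    simp

include hneg in
theorem exists_fam (n : ℕ) : ∀ a : ℤ, Nonempty (Fam F F' e₀ a (a + n)) := by
  induction n with
  | zero => intro a; simpa using exists_fam_base a
  | succ n ih =>
    intro a
    obtain ⟨P⟩ := ih a
    exact exists_fam_step hneg (b := a + ((n + 1 : ℕ) : ℤ)) (P.restrict le_rfl (by omega)) (by omega)

include hneg in
theorem fam_unique (n : ℕ) : ∀ (a b : ℤ), b = a + n → ∀ (P Q : Fam F F' e₀ a b) (K : DerivedCategory.Bounded A)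
    (hK : W a b K), P.θ K hK = Q.θ K hK := by
  induction n with
  | zero =>
    intro a b hb P Q K hK
    obtain rfl : b = a := by omega
    obtain ⟨X, ⟨e⟩⟩ := exists_iso_T hK
    have hW := hK.of_iso e
    have h1 := P.nat hK hW e.hom
    have h2 := Q.nat hK hW e.hom
    rw [P.spec b le_rfl le_rfl X hW] at h1
    rw [Q.spec b le_rfl le_rfl X hW, h1] at h2
    ext
    exact (cancel_mono (F'.map e.hom)).1 h2
  | succ n ih =>
    intro a b hb P Q K hK
    have hab : a < b := by omega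
    let P' : Fam F F' e₀ a (b - 1) := P.restrict le_rfl (by omega)
    have hsq : ∀ (R : Fam F F' e₀ a b), Sq P' K (R.θ K hK).hom := fun R Y hY h => by
      rw [ih a (b - 1) (by omega) P' (R.restrict le_rfl (by omega)) Y hY]
      exact R.nat hK _ h
    ext
    simpa using (sq_natural hneg P' hab hK hK (hsq Q) (hsq P) (𝟙 _))

include hneg in
/-- Siblings of a full functor on a category with enough negative objects are isomorphic. -/
theorem nonempty_iso (e₁ : DEquiv.singleB A ⋙ F ≅ DEquiv.singleB A ⋙ F') : Nonempty (F ≅ F') := by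
  have hfam : ∀ a b : ℤ, a ≤ b → Nonempty (Fam F F' e₁ a b) := fun a b h => by
    obtain ⟨n, rfl⟩ : ∃ n : ℕ, b = a + n := ⟨(b - a).toNat, by omega⟩
    exact exists_fam hneg n a
  have huniq : ∀ a b : ℤ, a ≤ b → ∀ (P Q : Fam F F' e₁ a b) (K) (hK : W a b K), P.θ K hK = Q.θ K hK :=
    fun a b h => fam_unique hneg (b - a).toNat a b (by omega)
  choose a b hab hW using fun K : DerivedCategory.Bounded A => exists_W K
  let P := fun a b (h : a ≤ b) => (hfam a b h).some
  refine ⟨NatIso.ofComponents (fun K => (P _ _ (hab K)).θ K (hW K)) (fun {K L} f => ?_)⟩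
  have hR : ∀ K, min (a K) (a L) ≤ max (b K) (b L) := fun _ => by have := hab L; omega
  obtain ⟨R⟩ := hfam (min (a K) (a L)) (max (b K) (b L)) (hR K)
  have eK : (P _ _ (hab K)).θ K (hW K) = R.θ K ((hW K).mono (min_le_left _ _) (le_max_left _ _)) :=
    huniq _ _ (hab K) _ (R.restrict (min_le_left _ _) (le_max_left _ _)) K (hW K)
  have eL : (P _ _ (hab L)).θ L (hW L) = R.θ L ((hW L).mono (min_le_right _ _) (le_max_right _ _)) :=
    huniq _ _ (hab L) _ (R.restrict (min_le_right _ _) (le_max_right _ _)) L (hW L)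
  rw [eK, eL]
  exact R.nat _ _ f

end Groth.Agent.SibLib
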