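import Groth.Agent.SibLib.Single
import Mathlib.Algebra.Homology.HomotopyCategory.HomComplexSingle

/-!
# Covers by shifted negative objects of the heart
-/

set_option autoImplicit false
set_option linter.style.haveILetI false

universe w v u

open CategoryTheory CategoryTheory.Limits CategoryTheory.Pretriangulated

namespace Groth.Agent.SibLib

variable {A : Type u} [Category.{v} A] [Abelian A] [HasDerivedCategory.{w} A]

/-- Objects with cohomology in degrees `[a, b]`. -/
def W (a b : ℤ) (K : DerivedCategory.Bounded A) : Prop := K.obj.IsGE a ∧ K.obj.IsLE b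

theorem W.mono {a b a' b' : ℤ} {K : DerivedCategory.Bounded A} (h : W a b K) (ha : a' ≤ a) (hb : b ≤ b') : W a' b' K :=
  ⟨haveI := h.1; DerivedCategory.TStructure.t.isGE_of_ge _ _ _ ha,
    haveI := h.2; DerivedCategory.TStructure.t.isLE_of_le _ _ _ hb⟩

theorem W_T (m : ℤ) (X : A) : W m m ((T A m).obj X) := ⟨inferInstance, inferInstance⟩

theorem W.of_iso {a b : ℤ} {K L : DerivedCategory.Bounded A} (h : W a b K) (e : K ≅ L) : W a b L :=
  ⟨haveI : DerivedCategory.TStructure.t.IsGE K.obj a := h.1;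
    DerivedCategory.TStructure.t.isGE_of_iso (X := K.obj) (Y := L.obj) ((DerivedCategory.Bounded.ι).mapIso e) a,
    haveI : DerivedCategory.TStructure.t.IsLE K.obj b := h.2;
    DerivedCategory.TStructure.t.isLE_of_iso (X := K.obj) (Y := L.obj) ((DerivedCategory.Bounded.ι).mapIso e) b⟩

theorem exists_W (K : DerivedCategory.Bounded A) : ∃ a b : ℤ, a ≤ b ∧ W a b K := by
  obtain ⟨⟨a, ha⟩, b, hb⟩ := K.property
  exact ⟨min a b, b, min_le_right a b, ⟨DerivedCategory.TStructure.t.isGE_of_ge _ _ _ (min_le_left a b), hb⟩⟩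

/-- Objects with cohomology in one degree come from the heart. -/
theorem exists_iso_T {a : ℤ} {K : DerivedCategory.Bounded A} (h : W a a K) : ∃ X : A, Nonempty (K ≅ (T A a).obj X) := by
  haveI := h.1; haveI := h.2
  obtain ⟨X, ⟨e⟩⟩ := DerivedCategory.exists_iso_singleFunctor_obj_of_isGE_of_isLE K.obj a
  exact ⟨X, ⟨ObjectProperty.isoMk _ (e ≪≫ (TIso a X).symm)⟩⟩

/-- The middle object of a triangle has bounds of the outer ones. -/
theorem W.of_triangle {a b : ℤ} {Z : Triangle (DerivedCategory.Bounded A)} (hZ : Z ∈ distTriang _)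
    (h₁ : W a b Z.obj₁) (h₃ : W a b Z.obj₃) : W a b Z.obj₂ :=
  ⟨DerivedCategory.TStructure.t.isGE₂ _ ((DerivedCategory.Bounded.ι (C := A)).map_distinguished Z hZ) a h₁.1 h₃.1,
    DerivedCategory.TStructure.t.isLE₂ _ ((DerivedCategory.Bounded.ι (C := A)).map_distinguished Z hZ) b h₁.2 h₃.2⟩

theorem W.biprod {a b : ℤ} {K L : DerivedCategory.Bounded A} [HasBinaryBiproduct K L] (hK : W a b K) (hL : W a b L) :
    W a b (K ⊞ L) :=
  W.of_triangle (binaryBiproductTriangle_distinguished K L) hK hL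

/-- Given finitely many morphisms to shorter objects, a cover killing all of them. -/
theorem exists_data (hneg : ∀ X : A, ∃ (N : A) (p : N ⟶ X), Epi p ∧ ∀ f : X ⟶ N, f = 0) {a b : ℤ} (hab : a < b)
    {X Y : DerivedCategory.Bounded A} (hX : W a b X) (hY : Y.obj.IsLE (b - 1)) (f : X ⟶ Y) (P : A) :
    ∃ (N : A) (g : (T A b).obj N ⟶ X) (Z : DerivedCategory.Bounded A) (h : X ⟶ Z) (δ : Z ⟶ ((T A b).obj N)⟦(1 : ℤ)⟧),
      Triangle.mk g h δ ∈ distTriang _ ∧ W a (b - 1) Z ∧ g ≫ f = 0 ∧
      Epi ((DerivedCategory.homologyFunctor A b).map g.hom) ∧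
      (∀ φ : P ⟶ N, φ = 0) ∧ ∀ u : X ⟶ (T A b).obj N, u = 0 := by
  haveI := hX.1; haveI := hX.2; haveI := hY
  obtain ⟨V, w, δ', hV⟩ := Pretriangulated.distinguished_cocone_triangle₁ f.hom
  let H : ℤ → DerivedCategory A ⥤ A := fun n => DerivedCategory.homologyFunctor A n
  have hzero : ∀ n, b ≤ n → IsZero ((H n).obj Y.obj) := fun n hn => Y.obj.isZero_of_isLE (b - 1) n (by omega)
  have hVle : V.IsLE b := by
    rw [DerivedCategory.isLE_iff]
    intro i hi
    obtain ⟨j, rfl⟩ : ∃ j, i = j + 1 := ⟨i - 1, by omega⟩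
    refine (DerivedCategory.HomologySequence.exact₁ _ hV j (j + 1) rfl).isZero_of_both_zeros ?_ ?_
    · exact (hzero j (by omega)).eq_of_src _ _
    · exact (X.obj.isZero_of_isLE b (j + 1) hi).eq_of_tgt _ _
  have hepiw : Epi ((H b).map w) :=
    (DerivedCategory.HomologySequence.exact₂ _ hV b).epi_f ((hzero b le_rfl).eq_of_tgt _ _)
  obtain ⟨K, hK, ⟨e⟩⟩ := DerivedCategory.exists_iso_Q_obj_of_isLE V b
  obtain ⟨N, π, hπ, hπ'⟩ := hneg (K.X b ⊞ ((H b).obj X.obj ⊞ P))
  let π₁ : N ⟶ K.X b := π ≫ biprod.fst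
  have hd : K.d b (b + 1) = 0 := (K.isZero_of_isStrictlyLE b (b + 1) (by omega)).eq_of_tgt _ _
  let φ : (CochainComplex.singleFunctor A b).obj N ⟶ K :=
    HomologicalComplex.mkHomFromSingle π₁ (fun j hj => by
      obtain rfl : b + 1 = j := hj
      rw [hd, Limits.comp_zero])
  let g₀ : (DerivedCategory.singleFunctor A b).obj N ⟶ V :=
    ((DerivedCategory.singleFunctorIsoCompQ A b).app N).hom ≫ DerivedCategory.Q.map φ ≫ e.inv
  let g : (T A b).obj N ⟶ X := ObjectProperty.homMk ((TIso b N).hom ≫ g₀ ≫ w)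
  have hgf : g ≫ f = 0 := by
    refine ObjectProperty.hom_ext _ ?_
    show ((TIso b N).hom ≫ g₀ ≫ w) ≫ f.hom = 0
    rw [Category.assoc, Category.assoc, show w ≫ f.hom = 0 from Pretriangulated.comp_distTriang_mor_zero₁₂ _ hV,
      comp_zero, comp_zero]
  have hgepi : Epi ((H b).map g.hom) := by
    have h1 : Epi ((H b).map (DerivedCategory.Q.map φ)) := by
      haveI : Epi (HomologicalComplex.homologyMap φ b) := by
        let S := (CochainComplex.singleFunctor A b).obj N
        haveI : Epi (φ.f b) := by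
          haveI : Epi π₁ := by dsimp only [π₁]; infer_instance
          simp only [φ, HomologicalComplex.mkHomFromSingle_f]
          exact epi_comp (HomologicalComplex.singleObjXSelf (ComplexShape.up ℤ) b N).hom π₁
        haveI : IsIso (K.iCycles b) := K.isIso_iCycles b (b + 1) (by simp) hd
        have hS : S.d b (b + 1) = 0 :=
          (HomologicalComplex.isZero_single_obj_X (ComplexShape.up ℤ) b N (b + 1) (by omega)).eq_of_tgt _ _
        haveI : IsIso (S.iCycles b) := S.isIso_iCycles b (b + 1) (by simp) hS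
        haveI : Epi (HomologicalComplex.cyclesMap φ b) := by
          have h := HomologicalComplex.cyclesMap_i φ b
          rw [← IsIso.eq_comp_inv] at h
          rw [h]; infer_instance
        exact epi_of_epi_fac (HomologicalComplex.homologyπ_naturality φ b)
      exact ((MorphismProperty.epimorphisms A).arrow_mk_iso_iff
        (((Functor.mapArrowFunctor _ _).mapIso (DerivedCategory.homologyFunctorFactors A b)).app (Arrow.mk φ))).2 this
    show Epi ((H b).map ((TIso b N).hom ≫ g₀ ≫ w))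
    simp only [g₀, Functor.map_comp, Category.assoc]
    infer_instance
  have hXN : ∀ ψ : (H b).obj X.obj ⟶ N, ψ = 0 := fun ψ => by
    simpa using congrArg (fun t => (biprod.inl ≫ biprod.inr : _ ⟶ K.X b ⊞ ((H b).obj X.obj ⊞ P)) ≫ t) (hπ' (biprod.snd ≫ biprod.fst ≫ ψ))
  obtain ⟨Z, h, δ, hdist⟩ := distinguished_cocone_triangle g
  refine ⟨N, g, Z, h, δ, hdist, ⟨?_, ?_⟩, hgf, hgepi, fun ψ => ?_, fun u => ?_⟩
  · have hdist' := (DerivedCategory.Bounded.ι (C := A)).map_distinguished _ hdist
    rw [DerivedCategory.isGE_iff]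
    intro i hi
    refine (DerivedCategory.HomologySequence.exact₃ _ hdist' i (i + 1) rfl).isZero_of_both_zeros ?_ ?_
    · exact (X.obj.isZero_of_isGE a i hi).eq_of_src _ _
    · exact (((T A b).obj N).obj.isZero_of_isGE b (i + 1) (by omega)).eq_of_tgt _ _
  · have hdist' := (DerivedCategory.Bounded.ι (C := A)).map_distinguished _ hdist
    rw [DerivedCategory.isLE_iff]
    intro i hi
    refine (DerivedCategory.HomologySequence.exact₃ _ hdist' i (i + 1) rfl).isZero_of_both_zeros ?_ ?_
    · rcases eq_or_lt_of_le (show b ≤ i by omega) with rfl | hi'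
      · haveI : Epi ((H b).map g.hom) := hgepi
        have hc : (H b).map g.hom ≫ (H b).map h.hom = 0 := by
          rw [← Functor.map_comp, show g.hom ≫ h.hom = 0 from Pretriangulated.comp_distTriang_mor_zero₁₂ _ hdist',
            Functor.map_zero]
        exact hgepi.left_cancellation _ _ (hc.trans comp_zero.symm)
      · exact (X.obj.isZero_of_isLE b i hi').eq_of_src _ _
    · exact (((T A b).obj N).obj.isZero_of_isLE b (i + 1) (by omega)).eq_of_tgt _ _
  · simpa using congrArg (fun t => (biprod.inr ≫ biprod.inr : _ ⟶ K.X b ⊞ ((H b).obj X.obj ⊞ P)) ≫ t) (hπ' (biprod.snd ≫ biprod.snd ≫ ψ))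
  · refine eq_zero_of_homology_T b u ((cancel_mono ((H b).map (TIso b N).hom)).1 ?_)
    rw [zero_comp, ← cancel_mono (((DerivedCategory.singleFunctorCompHomologyFunctorIso A b).app N).hom), zero_comp]
    exact hXN _

end Groth.Agent.SibLib
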