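import Groth.Prelude.Def_W4stkfunctorsequivSib
import Mathlib.Algebra.Homology.DerivedCategory.HomologySequence
import Mathlib.Algebra.Homology.DerivedCategory.FullyFaithful
import Mathlib.CategoryTheory.Triangulated.TStructure.TruncLTGE
import Mathlib.CategoryTheory.Triangulated.Subcategory

/-!
# Shifted objects of the heart in the bounded derived category, and the isomorphisms they inherit
-/

set_option autoImplicit false

universe w v u v' u'

open CategoryTheory CategoryTheory.Limits CategoryTheory.Pretriangulated

namespace Groth.Agent.SibLib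

variable {A : Type u} [Category.{v} A] [Abelian A] [HasDerivedCategory.{w} A]

instance : (DEquiv.singleB A).Full where
  map_surjective f := ⟨(DerivedCategory.singleFunctor A 0).preimage f.hom,
    ObjectProperty.hom_ext _ ((DerivedCategory.singleFunctor A 0).map_preimage f.hom)⟩

instance : (DEquiv.singleB A).Faithful where
  map_injective {_ _ a b} h := (DerivedCategory.singleFunctor A 0).map_injective (show ((DEquiv.singleB A).map a).hom = ((DEquiv.singleB A).map b).hom by rw [h])

variable (A) in
/-- The objects of `A` placed in cohomological degree `m`, inside the bounded derived category. -/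
noncomputable def T (m : ℤ) : A ⥤ DerivedCategory.Bounded A :=
  DEquiv.singleB A ⋙ shiftFunctor _ (-m)

instance (m : ℤ) : (T A m).Full := by dsimp only [T]; infer_instance

instance (m : ℤ) : (T A m).Faithful := by dsimp only [T]; infer_instance

/-- `T m` is the single functor in degree `m`. -/
noncomputable def TIso (m : ℤ) (X : A) :
    ((T A m).obj X).obj ≅ (DerivedCategory.singleFunctor A m).obj X :=
  ((DerivedCategory.Bounded.ι (C := A)).commShiftIso (-m)).app ((DEquiv.singleB A).obj X) ≪≫
    ((DerivedCategory.singleFunctors A).shiftIso (-m) m 0 (by omega)).app X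

instance isGE_T (m : ℤ) (X : A) : ((T A m).obj X).obj.IsGE m :=
  DerivedCategory.TStructure.t.isGE_of_iso (TIso m X).symm m

instance isLE_T (m : ℤ) (X : A) : ((T A m).obj X).obj.IsLE m :=
  DerivedCategory.TStructure.t.isLE_of_iso (TIso m X).symm m

/-- A morphism from an object concentrated in degrees `≤ b` to an object of the heart in degree `b`
is zero when it is zero on the cohomology of degree `b`. -/
theorem eq_zero_of_homology {X : DerivedCategory A} (b : ℤ) [X.IsLE b] {N : A}
    (f : X ⟶ (DerivedCategory.singleFunctor A b).obj N)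
    (hf : (DerivedCategory.homologyFunctor A b).map f = 0) : f = 0 := by
  obtain ⟨K, hK, ⟨e⟩⟩ := DerivedCategory.exists_iso_Q_obj_of_isLE X b
  let e' := (DerivedCategory.singleFunctorIsoCompQ A b).app N
  obtain ⟨K', hK', s, hs, g, hg⟩ := DerivedCategory.right_fac_of_isStrictlyLE (e.inv ≫ f ≫ e'.hom) b
  have h0 : (DerivedCategory.homologyFunctor A b).map (DerivedCategory.Q.map g) = 0 := by
    rw [show DerivedCategory.Q.map g = DerivedCategory.Q.map s ≫ e.inv ≫ f ≫ e'.hom by
      rw [hg, IsIso.hom_inv_id_assoc]]
    simp only [Functor.map_comp, hf, zero_comp, comp_zero]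
  have hh : HomologicalComplex.homologyMap g b = 0 := by
    have := NatIso.naturality_1 (DerivedCategory.homologyFunctorFactors A b) g
    rw [Functor.comp_map, h0, zero_comp, comp_zero] at this
    exact this.symm
  let S := (CochainComplex.singleFunctor A b).obj N
  have hg0 : g = 0 := by
    refine HomologicalComplex.to_single_hom_ext ?_
    have hd : K'.d b (b + 1) = 0 := (K'.isZero_of_isStrictlyLE b (b + 1) (by omega)).eq_of_tgt _ _
    haveI : IsIso (K'.iCycles b) := K'.isIso_iCycles b (b + 1) (by simp) hd
    have hSd : S.d (b - 1) b = 0 :=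
      (HomologicalComplex.isZero_single_obj_X (ComplexShape.up ℤ) b N (b - 1) (by omega)).eq_of_src _ _
    haveI : IsIso (S.homologyπ b) := S.isIso_homologyπ (b - 1) b (by simp) hSd
    have h1 := HomologicalComplex.homologyπ_naturality g b
    rw [hh, comp_zero] at h1
    have h2 : HomologicalComplex.cyclesMap g b = 0 := (cancel_mono (S.homologyπ b)).1 (by rw [zero_comp]; exact h1.symm)
    have h3 := HomologicalComplex.cyclesMap_i g b
    rw [h2, zero_comp] at h3
    rw [HomologicalComplex.zero_f]
    exact (cancel_epi (K'.iCycles b)).1 (h3.symm.trans comp_zero.symm)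
  have h4 : e.inv ≫ f ≫ e'.hom = 0 := by rw [hg, hg0, Functor.map_zero, comp_zero]
  simpa using h4

/-- The same statement inside the bounded derived category. -/
theorem eq_zero_of_homology_T {X : DerivedCategory.Bounded A} (b : ℤ) [X.obj.IsLE b] {N : A}
    (f : X ⟶ (T A b).obj N) (hf : (DerivedCategory.homologyFunctor A b).map f.hom = 0) : f = 0 := by
  refine ObjectProperty.hom_ext _ ((cancel_mono (TIso b N).hom).1 ?_)
  show f.hom ≫ (TIso b N).hom = 0 ≫ (TIso b N).hom
  rw [zero_comp]
  exact eq_zero_of_homology b _ (by rw [Functor.map_comp, hf, zero_comp])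

section Eps

variable {D : Type u'} [Category.{v'} D] [HasShift D ℤ]
  (F F' : DerivedCategory.Bounded A ⥤ D) [F.CommShift ℤ] [F'.CommShift ℤ]
  (e₀ : DEquiv.singleB A ⋙ F ≅ DEquiv.singleB A ⋙ F')

/-- The isomorphism on shifted objects of the heart induced by one on the heart. -/
noncomputable def eps (m : ℤ) : T A m ⋙ F ≅ T A m ⋙ F' :=
  Functor.associator _ _ _ ≪≫ Functor.isoWhiskerLeft _ (F.commShiftIso (-m)) ≪≫ (Functor.associator _ _ _).symm ≪≫
    Functor.isoWhiskerRight e₀ _ ≪≫
    Functor.associator _ _ _ ≪≫ Functor.isoWhiskerLeft _ (F'.commShiftIso (-m)).symm ≪≫ (Functor.associator _ _ _).symm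

theorem eps_app (m : ℤ) (X : A) :
    (eps F F' e₀ m).hom.app X = (F.commShiftIso (-m)).hom.app ((DEquiv.singleB A).obj X) ≫
      (e₀.hom.app X)⟦-m⟧' ≫ (F'.commShiftIso (-m)).inv.app ((DEquiv.singleB A).obj X) := by
  simp [eps, T]

/-- Moving down one degree. -/
noncomputable def succIso {n m : ℤ} (h : n + 1 = m) (X : A) : ((T A m).obj X)⟦(1 : ℤ)⟧ ≅ (T A n).obj X :=
  ((shiftFunctorAdd' (DerivedCategory.Bounded A) (-m) 1 (-n) (by omega)).app ((DEquiv.singleB A).obj X)).symm

theorem eps_shift {n m : ℤ} (h : n + 1 = m) (X : A) :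
    F.map (succIso h X).inv ≫ (F.commShiftIso (1 : ℤ)).hom.app ((T A m).obj X) ≫
        ((eps F F' e₀ m).hom.app X)⟦(1 : ℤ)⟧' =
      (eps F F' e₀ n).hom.app X ≫ F'.map (succIso h X).inv ≫ (F'.commShiftIso (1 : ℤ)).hom.app ((T A m).obj X) := by
  have hF := F.commShiftIso_add' (show -m + 1 = -n by omega)
  have hF' := F'.commShiftIso_add' (show -m + 1 = -n by omega)
  have hnat := (shiftFunctorAdd' D (-m) 1 (-n) (by omega)).hom.naturality (e₀.hom.app X)
  simp only [eps_app, hF, hF', Functor.CommShift.isoAdd'_hom_app, Functor.CommShift.isoAdd'_inv_app,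
    succIso, Iso.symm_inv, Iso.app_hom, T, Functor.comp_obj, Functor.map_comp, Category.assoc,
    Functor.comp_map] at *
  rw [← Functor.map_comp_assoc F', Iso.inv_hom_id_app, reassoc_of% hnat, Iso.inv_hom_id_app_assoc]
  simp

end Eps

end Groth.Agent.SibLib
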