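import Groth.Agent.SibLib.Neg

/-!
# Covers of the top degree
-/

set_option autoImplicit false
set_option linter.style.haveILetI false

universe w v u

open CategoryTheory CategoryTheory.Limits CategoryTheory.Pretriangulated

namespace Groth.Agent.SibLib

variable {A : Type u} [Category.{v} A] [Abelian A] [HasDerivedCategory.{w} A]

/-- The top degree can be covered by an object of the heart. -/
theorem exists_top {a b : ℤ} (hab : a < b) {X : DerivedCategory.Bounded A} (hX : W a b X) :
    ∃ (N : A) (g : (T A b).obj N ⟶ X) (Z : DerivedCategory.Bounded A) (h : X ⟶ Z) (δ : Z ⟶ ((T A b).obj N)⟦(1 : ℤ)⟧),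
      Triangle.mk g h δ ∈ distTriang _ ∧ W a (b - 1) Z ∧
      Epi ((DerivedCategory.homologyFunctor A b).map g.hom) := by
  haveI := hX.1; haveI := hX.2
  let H : ℤ → DerivedCategory A ⥤ A := fun n => DerivedCategory.homologyFunctor A n
  obtain ⟨K, hK, ⟨e⟩⟩ := DerivedCategory.exists_iso_Q_obj_of_isLE X.obj b
  let N : A := K.X b
  let π₁ : N ⟶ K.X b := 𝟙 _
  have hd : K.d b (b + 1) = 0 := (K.isZero_of_isStrictlyLE b (b + 1) (by omega)).eq_of_tgt _ _
  let φ : (CochainComplex.singleFunctor A b).obj N ⟶ K :=
    HomologicalComplex.mkHomFromSingle π₁ (fun j hj => by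
      obtain rfl : b + 1 = j := hj
      rw [hd, Limits.comp_zero])
  let g₀ : (DerivedCategory.singleFunctor A b).obj N ⟶ X.obj :=
    ((DerivedCategory.singleFunctorIsoCompQ A b).app N).hom ≫ DerivedCategory.Q.map φ ≫ e.inv
  let g : (T A b).obj N ⟶ X := ObjectProperty.homMk ((TIso b N).hom ≫ g₀)
  have hgepi : Epi ((H b).map g.hom) := by
    have h1 : Epi ((H b).map (DerivedCategory.Q.map φ)) := by
      haveI : Epi (HomologicalComplex.homologyMap φ b) := by
        let S := (CochainComplex.singleFunctor A b).obj N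
        haveI : Epi (φ.f b) := by
          haveI : Epi π₁ := by dsimp only [π₁]; infer_instance
          simp only [φ, HomologicalComplex.mkHomFromSingle_f]
          exact epi_comp (HomologicalComplex.singleObjXSelf (ComplexShape.up ℤ) b N).hom π₁
        haveI : IsIso (K.iCycles b) := K.isIso_iCycles b (b + 1) (by simp) hd
        have hS : S.d b (b + 1) = 0 :=
          (HomologicalComplex.isZero_single_obj_X (ComplexShape.up ℤ) b N (b + 1) (by omega)).eq_of_tgt _ _
        haveI : IsIso (S.iCycles b) := S.isIso_iCycles b (b + 1) (by simp) hS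
        haveI : Epi (HomologicalComplex.cyclesMap φ b) := by
          have h := HomologicalComplex.cyclesMap_i φ b
          rw [← IsIso.eq_comp_inv] at h
          rw [h]; infer_instance
        exact epi_of_epi_fac (HomologicalComplex.homologyπ_naturality φ b)
      exact ((MorphismProperty.epimorphisms A).arrow_mk_iso_iff
        (((Functor.mapArrowFunctor _ _).mapIso (DerivedCategory.homologyFunctorFactors A b)).app (Arrow.mk φ))).2 this
    show Epi ((H b).map ((TIso b N).hom ≫ g₀))
    simp only [g₀, Functor.map_comp]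
    infer_instance
  obtain ⟨Z, h, δ, hdist⟩ := distinguished_cocone_triangle g
  refine ⟨N, g, Z, h, δ, hdist, ⟨?_, ?_⟩, hgepi⟩
  · have hdist' := (DerivedCategory.Bounded.ι (C := A)).map_distinguished _ hdist
    rw [DerivedCategory.isGE_iff]
    intro i hi
    refine (DerivedCategory.HomologySequence.exact₃ _ hdist' i (i + 1) rfl).isZero_of_both_zeros ?_ ?_
    · exact (X.obj.isZero_of_isGE a i hi).eq_of_src _ _
    · exact (((T A b).obj N).obj.isZero_of_isGE b (i + 1) (by omega)).eq_of_tgt _ _
  · have hdist' := (DerivedCategory.Bounded.ι (C := A)).map_distinguished _ hdist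
    rw [DerivedCategory.isLE_iff]
    intro i hi
    refine (DerivedCategory.HomologySequence.exact₃ _ hdist' i (i + 1) rfl).isZero_of_both_zeros ?_ ?_
    · rcases eq_or_lt_of_le (show b ≤ i by omega) with rfl | hi'
      · haveI : Epi ((H b).map g.hom) := hgepi
        have hc : (H b).map g.hom ≫ (H b).map h.hom = 0 := by
          rw [← Functor.map_comp, show g.hom ≫ h.hom = 0 from Pretriangulated.comp_distTriang_mor_zero₁₂ _ hdist',
            Functor.map_zero]
        exact hgepi.left_cancellation _ _ (hc.trans comp_zero.symm)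
      · exact (X.obj.isZero_of_isLE b i hi').eq_of_src _ _
    · exact (((T A b).obj N).obj.isZero_of_isLE b (i + 1) (by omega)).eq_of_tgt _ _

/-- Shifting moves the bounds. -/
theorem W_shift {a b a' b' : ℤ} {K : DerivedCategory.Bounded A} (h : W a b K) (s : ℤ) (ha : s + a' = a) (hb : s + b' = b) :
    W a' b' (K⟦s⟧) :=
  ⟨haveI : DerivedCategory.TStructure.t.IsGE K.obj a := h.1;
    haveI : DerivedCategory.TStructure.t.IsGE (K.obj⟦s⟧) a' := DerivedCategory.TStructure.t.isGE_shift _ a s a' ha;
    DerivedCategory.TStructure.t.isGE_of_iso (X := K.obj⟦s⟧) (Y := (K⟦s⟧).obj) (((DerivedCategory.Bounded.ι (C := A)).commShiftIso s).app K).symm a',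
    haveI : DerivedCategory.TStructure.t.IsLE K.obj b := h.2;
    haveI : DerivedCategory.TStructure.t.IsLE (K.obj⟦s⟧) b' := DerivedCategory.TStructure.t.isLE_shift _ b s b' hb;
    DerivedCategory.TStructure.t.isLE_of_iso (X := K.obj⟦s⟧) (Y := (K⟦s⟧).obj) (((DerivedCategory.Bounded.ι (C := A)).commShiftIso s).app K).symm b'⟩

/-- Naturality of the comparison with the single functor. -/
theorem TIso_naturality (m : ℤ) {X Y : A} (p : X ⟶ Y) :
    ((T A m).map p).hom ≫ (TIso m Y).hom = (TIso m X).hom ≫ (DerivedCategory.singleFunctor A m).map p :=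
  ((DerivedCategory.Bounded.ι (C := A)).commShiftIso (-m)).hom.naturality_assoc ((DEquiv.singleB A).map p)
      (((DerivedCategory.singleFunctors A).shiftIso (-m) m 0 (by omega)).hom.app Y) |>.trans
    ((congrArg (_ ≫ ·) (((DerivedCategory.singleFunctors A).shiftIso (-m) m 0 (by omega)).hom.naturality p)).trans
      (Category.assoc _ _ _).symm)

end Groth.Agent.SibLib
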